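import Cfsg.Agent.H284.EP.Engine
import Cfsg.Agent.S0721

/-!
# S5745 (extremely primitive exceptional groups): the frame (driver helper209)

* `EPA2 H X` : `X` is an abelian normal subgroup of `H`, `X ≠ 1`  (case AFF);
* `EPT2 H N N' e e'` : two commuting nonabelian minimal normal subgroups of `H` (case TWO);
* `EPS H N e` : `H` is the stabiliser, `N ≅ T^k` its unique minimal normal subgroup, nonabelian, `C_G(N) = 1`;
* `EP.trichotomy` : one of the three holds.
-/

set_option autoImplicit false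
set_option linter.unusedSectionVars false

namespace Cfsg.Agent.H209.EPX

open MulAction Subgroup Cfsg.Agent.H284

variable {G : Type*} [Group G]

/-- `K` is a subgroup of `H` normalised by `H` -/
structure NIn (K H : Subgroup G) : Prop where
  le : K ≤ H
  nrm : ∀ g ∈ H, ∀ k ∈ K, g * k * g⁻¹ ∈ K

/-- `N` is a minimal normal subgroup of `H` -/
structure MinN (N H : Subgroup G) : Prop extends NIn N H where
  ne : N ≠ ⊥
  min : ∀ K ≤ N, NIn K H → K = ⊥ ∨ K = N

/-- The stabiliser `H` of an extremely primitive group, `N ≅ T^k` its unique minimal normal subgroup. -/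
structure EPS (H N : Subgroup G) {T : Type} [Group T] {k : ℕ} (e : N ≃* (Fin k → T)) : Prop extends MinN N H where
  ep : EP H
  pos : 0 < k
  simple : IsSimpleGroup T
  nab : ∃ a b : T, a * b ≠ b * a
  cent : Subgroup.centralizer (N : Set G) = ⊥
  least : ∀ K : Subgroup G, NIn K H → K ≠ ⊥ → N ≤ K

/-- Two commuting nonabelian minimal normal subgroups of the stabiliser. -/
structure EPT2 (H N N' : Subgroup G) {T : Type} [Group T] {k : ℕ} (e : N ≃* (Fin k → T)) : Prop where
  ep : EP H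
  m1 : MinN N H
  m2 : MinN N' H
  pos : 0 < k
  simple : IsSimpleGroup T
  nab : ∃ a b : T, a * b ≠ b * a
  nab' : ∃ a ∈ N', ∃ b ∈ N', a * b ≠ b * a
  comm : ∀ a ∈ N, ∀ b ∈ N', a * b = b * a
  cen : ∀ c : G, (∀ a ∈ N, c * a = a * c) → c ∈ N'
  cen' : ∀ c : G, (∀ a ∈ N', c * a = a * c) → c ∈ N

/-- `X` is an abelian normal subgroup of the stabiliser. -/
structure EPA2 (H X : Subgroup G) : Prop where
  ep : EP H
  m : MinN X H
  ab : ∀ a ∈ X, ∀ b ∈ X, a * b = b * a

theorem exists_minN [Finite G] {H : Subgroup G} {K : Subgroup G} (hK : NIn K H) (hne : K ≠ ⊥) :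
    ∃ N ≤ K, MinN N H := by
  classical
  have hfin : Finite (Subgroup G) := inferInstance
  obtain ⟨N, ⟨hN1, hN2, hN3⟩, hmin⟩ := (Set.toFinite {N : Subgroup G | N ≤ K ∧ NIn N H ∧ N ≠ ⊥}).exists_minimal
    ⟨K, le_rfl, hK, hne⟩
  refine ⟨N, hN1, ⟨hN2, hN3, fun L hL hLn => ?_⟩⟩
  by_cases h : L = ⊥
  · exact Or.inl h
  · exact Or.inr (le_antisymm hL (hmin ⟨hL.trans hN1, hLn, h⟩ hL))

theorem MinN.exists_pi [Finite G] {N H : Subgroup G} (h : MinN N H) :
    ∃ (T : Type) (_ : Group T) (k : ℕ), IsSimpleGroup T ∧ 0 < k ∧ Nonempty (N ≃* (Fin k → T)) := by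
  have hn : (N.subgroupOf H).Normal := by
    constructor
    intro n hn g
    exact h.nrm g g.2 n hn
  obtain ⟨T, i1, k, h1, h2, ⟨e⟩⟩ := Cfsg.Agent.S0721.result (N.subgroupOf H) (by
    intro e
    apply h.ne
    rw [Subgroup.eq_bot_iff_forall]
    intro x hx
    have h1 : (⟨x, h.le hx⟩ : H) ∈ N.subgroupOf H := hx
    rw [e, mem_bot] at h1
    exact Subtype.ext_iff.1 h1) (by
    intro M hM hMN
    have h1 : NIn (M.map H.subtype) H := by
      refine ⟨?_, ?_⟩
      · rintro _ ⟨y, _, rfl⟩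
        exact y.2
      · rintro g hg _ ⟨y, hy, rfl⟩
        exact ⟨_, hM.conj_mem y hy ⟨g, hg⟩, rfl⟩
    have h2 : M.map H.subtype ≤ N := by
      rintro _ ⟨y, hy, rfl⟩
      exact hMN hy
    rcases h.min _ h2 h1 with h3 | h3
    · left
      rwa [Subgroup.map_eq_bot_iff_of_injective _ H.subtype_injective] at h3
    · right
      apply le_antisymm hMN
      intro x hx
      have h4 : (x : G) ∈ M.map H.subtype := by rw [h3]; exact hx
      obtain ⟨y, hy, hyx⟩ := h4
      have : y = x := Subtype.ext hyx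
      rwa [← this])
  exact ⟨T, i1, k, h1, h2, ⟨(Subgroup.subgroupOfEquivOfLe h.le).symm.trans e⟩⟩

section

variable [Finite G] {H : Subgroup G} (h : EP H)

include h

theorem _root_.Cfsg.Agent.H284.EP.norm_le {K : Subgroup G} (hK : NIn K H) (hne : K ≠ ⊥) {g : G}
    (hg : ∀ k ∈ K, g * k * g⁻¹ ∈ K) : g ∈ H := by
  by_contra hgH
  apply hne
  apply h.F1 hK.le hK.nrm (x := g⁻¹) (fun e => hgH (by have := inv_mem e; rwa [inv_inv] at this))
  intro k hk
  rw [mem_cj, inv_inv]
  exact hK.le (hg k hk)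

theorem _root_.Cfsg.Agent.H284.EP.cent_le {K : Subgroup G} (hK : NIn K H) (hne : K ≠ ⊥) {c : G}
    (hc : ∀ a ∈ K, c * a = a * c) : c ∈ H :=
  h.norm_le hK hne (g := c) (fun k hk => by rw [hc k hk, mul_inv_cancel_right]; exact hk)

/-- the centralizer in `G` of a subgroup normalised by `H` -/
theorem cent_nin {K : Subgroup G} (hK : NIn K H) (hne : K ≠ ⊥) : NIn (Subgroup.centralizer (K : Set G)) H := by
  refine ⟨fun c hc => h.cent_le hK hne fun a ha => ?_, ?_⟩
  · exact (Subgroup.mem_centralizer_iff.1 hc a ha).symm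
  · intro g hg c hc
    rw [Subgroup.mem_centralizer_iff] at hc ⊢
    intro a ha
    have h3 := hc _ (hK.nrm g⁻¹ (inv_mem hg) a ha)
    rw [inv_inv] at h3
    calc a * (g * c * g⁻¹) = g * (g⁻¹ * a * g * c) * g⁻¹ := by group
      _ = g * (c * (g⁻¹ * a * g)) * g⁻¹ := by rw [h3]
      _ = g * c * g⁻¹ * a := by group

/-- The three cases. -/
theorem trichotomy :
    (∃ X : Subgroup G, EPA2 H X) ∨
    (∃ (N N' : Subgroup G) (T : Type) (_ : Group T) (k : ℕ) (e : N ≃* (Fin k → T)), EPT2 H N N' e) ∨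
    ∃ (N : Subgroup G) (T : Type) (_ : Group T) (k : ℕ) (e : N ≃* (Fin k → T)), EPS H N e := by
  have hHH : NIn H H := ⟨le_rfl, fun g hg k hk => mul_mem (mul_mem hg hk) (inv_mem hg)⟩
  obtain ⟨N, -, hN⟩ := exists_minN hHH h.ne
  by_cases hab : ∀ a ∈ N, ∀ b ∈ N, a * b = b * a
  · exact Or.inl ⟨N, h, hN, hab⟩
  push Not at hab
  obtain ⟨a, ha, b, hb, hab⟩ := hab
  obtain ⟨T, i1, k, hs, hk, ⟨e⟩⟩ := hN.exists_pi
  have hnab : ∃ a b : T, a * b ≠ b * a := by
    by_contra hcon
    push Not at hcon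
    apply hab
    have h1 : (⟨a, ha⟩ : N) * ⟨b, hb⟩ = ⟨b, hb⟩ * ⟨a, ha⟩ := by
      apply e.injective
      rw [map_mul, map_mul]
      funext i
      exact hcon _ _
    exact Subtype.ext_iff.1 h1
  have hCn := cent_nin h hN.toNIn hN.ne
  by_cases hC : Subgroup.centralizer (N : Set G) = ⊥
  · right; right
    refine ⟨N, T, i1, k, e, ⟨hN, h, hk, hs, hnab, hC, ?_⟩⟩
    intro K hK hKne
    have h1 : NIn (K ⊓ N) H := ⟨inf_le_left.trans hK.le, fun g hg x hx =>
      ⟨hK.nrm g hg x hx.1, hN.nrm g hg x hx.2⟩⟩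
    rcases hN.min _ inf_le_right h1 with h2 | h2
    · exfalso
      apply hKne
      rw [← le_bot_iff, ← hC]
      intro x hx
      rw [Subgroup.mem_centralizer_iff]
      intro n hn
      have h3 : n * x * n⁻¹ * x⁻¹ ∈ K ⊓ N := by
        refine ⟨K.mul_mem (hK.nrm n (hN.le hn) x hx) (K.inv_mem hx), ?_⟩
        have h4 := N.mul_mem hn (hN.nrm x (hK.le hx) n⁻¹ (N.inv_mem hn))
        have h5 : n * x * n⁻¹ * x⁻¹ = n * (x * n⁻¹ * x⁻¹) := by group
        rw [h5]
        exact h4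
      rw [h2, mem_bot] at h3
      have h6 : n * x * n⁻¹ * x⁻¹ * (x * n) = n * x := by group
      rw [h3, one_mul] at h6
      exact h6.symm
    · rw [← h2]
      exact inf_le_left
  · obtain ⟨N', hN'C, hN'⟩ := exists_minN hCn hC
    have hcomm : ∀ a ∈ N, ∀ b ∈ N', a * b = b * a := fun a ha b hb =>
      Subgroup.mem_centralizer_iff.1 (hN'C hb) a ha
    by_cases hab' : ∀ a ∈ N', ∀ b ∈ N', a * b = b * a
    · exact Or.inl ⟨N', h, hN', hab'⟩
    push Not at hab'
    right; left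
    have h1 := h.card_comm hN.le hN.nrm hN.ne hN'.le hN'.nrm hN'.ne hcomm h.max.1
    have h2 := h.card_comm hN.le hN.nrm hN.ne hCn.le hCn.nrm hC
      (fun a ha b hb => Subgroup.mem_centralizer_iff.1 hb a ha) h.max.1
    have h3 : N' = Subgroup.centralizer (N : Set G) := Subgroup.eq_of_le_of_card_ge hN'C (h2.symm.trans h1).le
    have hCn' := cent_nin h hN'.toNIn hN'.ne
    have hle : N ≤ Subgroup.centralizer (N' : Set G) := fun a ha => by
      rw [Subgroup.mem_centralizer_iff]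
      exact fun b hb => (hcomm a ha b hb).symm
    have hC' : Subgroup.centralizer (N' : Set G) ≠ ⊥ := fun e => hN.ne (le_bot_iff.1 (e ▸ hle))
    have h4 := h.card_comm hN'.le hN'.nrm hN'.ne hCn'.le hCn'.nrm hC'
      (fun a ha b hb => Subgroup.mem_centralizer_iff.1 hb a ha) h.max.1
    have h5 : N = Subgroup.centralizer (N' : Set G) := Subgroup.eq_of_le_of_card_ge hle (h4.symm.trans h1.symm).le
    refine ⟨N, N', T, i1, k, e, ⟨h, hN, hN', hk, hs, hnab, ?_, hcomm, ?_, ?_⟩⟩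
    · obtain ⟨a, ha, b, hb, hab'⟩ := hab'
      exact ⟨a, ha, b, hb, hab'⟩
    · intro c hc
      rw [h3, Subgroup.mem_centralizer_iff]
      exact fun a ha => (hc a ha).symm
    · intro c hc
      rw [h5, Subgroup.mem_centralizer_iff]
      exact fun a ha => (hc a ha).symm

end

end Cfsg.Agent.H209.EPX
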